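import Groth.Agent.Lib.FormalFun.Basic
import Groth.Agent.Lib.FormalFn.Main

/-!
# Cohomology of `M/IⁿM` and `H(M)/IⁿH(M)` are pro-isomorphic when `H(M)` is finite

By induction on generators of `I`; no properness is used.
-/

set_option autoImplicit false
set_option linter.style.haveILetI false

universe u

open CategoryTheory CategoryTheory.Limits AlgebraicGeometry Opposite

noncomputable section

namespace GrothLib.FFun7

open GrothLib.Cohom GrothLib.FormalSys GrothLib.FormalFun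

variable {A : Type u} [CommRing A] {X : Scheme.{u}} [X.Over (Spec (CommRingCat.of A))]

/-- Elements of `H(M)` dying far out in the system lie in `IⁿH(M)`. -/
def KerSmall (J : Ideal A) (M : X.Modules) (p : ℕ) : Prop :=
  ∀ n, ∃ m, ∀ x : Coh.HH X M p, hhMap A (Formal.modPowπ J m M) p x = 0 → x ∈ J ^ n • (⊤ : Submodule A (Coh.HH X M p))

/-- Classes coming from far out in the system come from `H(M)`. -/
def ImSmall (J : Ideal A) (M : X.Modules) (p : ℕ) : Prop :=
  ∀ n, ∃ m, ∃ h : n ≤ m, ∀ z : Coh.HH X (Formal.modPow J m M) p,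
    ∃ x : Coh.HH X M p, hhMap A (Formal.modPowπ J n M) p x = hhMap A (Formal2.modPowLE J h M) p z

variable {M : X.Modules}

theorem hhMap_π_LE (J : Ideal A) {m n : ℕ} (h : m ≤ n) (p : ℕ) (x : Coh.HH X M p) :
    hhMap A (Formal2.modPowLE J h M) p (hhMap A (Formal.modPowπ J n M) p x) =
      hhMap A (Formal.modPowπ J m M) p x := by
  rw [hhMap_comp, Formal2.modPowπ_modPowLE]

theorem hhMap_π_eq_zero_of_mem (J : Ideal A) (n p : ℕ) {x : Coh.HH X M p}
    (h : x ∈ J ^ n • (⊤ : Submodule A (Coh.HH X M p))) : hhMap A (Formal.modPowπ J n M) p x = 0 := by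
  refine Submodule.smul_induction_on h (fun a ha y _ => ?_) (fun x y hx hy => by rw [map_add, hx, hy, add_zero])
  rw [← hhMap_smulMod, hhMap_comp, (IsQuot.modPowπ J n M).comp_eq_zero a ha, hhMap_zero]

/-- The sequences `0 → G/G[g^c] → G → G/g^(j+c)G → 0`. -/
theorem exists_mulSeq {G : X.Modules} [IsNoetherian X] (hG : Coh.IsCoh G) (g : A) :
    ∃ c₀, ∀ c, c₀ ≤ c → ∃ (M' : X.Modules) (q : G ⟶ M') (φ : ℕ → (M' ⟶ G))
      (hw : ∀ j, φ j ≫ cokernel.π (Formal.smulMod A G (g ^ (j + c))) = 0),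
      Epi q ∧ (∀ j, q ≫ φ j = Formal.smulMod A G (g ^ (j + c))) ∧ (∀ j, Mono (φ j)) ∧
      (∀ j p (y : Coh.HH X M' p), hhMap A (φ j) p y = g ^ j • hhMap A (φ 0) p y) ∧
      (∀ j, (ShortComplex.mk (φ j) (cokernel.π (Formal.smulMod A G (g ^ (j + c)))) (hw j)).ShortExact) := by
  obtain ⟨c₀, hc₀⟩ := exists_kernel_stable (A := A) hG g
  refine ⟨c₀, fun c hcc => ?_⟩
  let ι : kernel (Formal.smulMod A G (g ^ c₀)) ⟶ G := kernel.ι _
  let q : G ⟶ cokernel ι := cokernel.π ι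
  have hφ0 : ∀ j, ι ≫ Formal.smulMod A G (g ^ (j + c)) = 0 := fun j => by
    obtain ⟨d, hd⟩ : ∃ d, j + c = d + c₀ := ⟨j + c - c₀, by omega⟩
    rw [hd, pow_add, smulMod_mul, kernel.condition_assoc, zero_comp]
  let φ : ∀ j, cokernel ι ⟶ G := fun j => cokernel.desc ι _ (hφ0 j)
  have hqφ : ∀ j, q ≫ φ j = Formal.smulMod A G (g ^ (j + c)) := fun j => cokernel.π_desc _ _ _
  have hmono : ∀ j, Mono (φ j) := fun j => by
    refine Preadditive.mono_of_cancel_zero _ fun {T} x hx => ?_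
    obtain ⟨T', r, hr, z, hz⟩ := surjective_up_to_refinements_of_epi q x
    have h0 : z ≫ Formal.smulMod A G (g ^ (j + c)) = 0 := by
      rw [← hqφ, ← Category.assoc, ← hz, Category.assoc, hx, comp_zero]
    rw [← cancel_epi r, comp_zero, hz,
      ← kernel.lift_ι _ z (hc₀ (j + c) (by omega) z h0), Category.assoc]
    exact (congrArg _ (cokernel.condition ι)).trans comp_zero
  have hw : ∀ j, φ j ≫ cokernel.π (Formal.smulMod A G (g ^ (j + c))) = 0 := fun j => by
    rw [← cancel_epi q, ← Category.assoc, hqφ, cokernel.condition, comp_zero]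
  refine ⟨cokernel ι, q, φ, hw, inferInstance, hqφ, hmono, fun j p y => ?_, fun j => ?_⟩
  · have h : φ j = Formal.smulMod A (cokernel ι) (g ^ j) ≫ φ 0 := by
      rw [← cancel_epi q, hqφ, ← Category.assoc, ← smulMod_naturality, Category.assoc, hqφ, ← smulMod_mul]
      ring_nf
    rw [h, ← hhMap_comp, hhMap_smulMod, map_smul]
  · have hd : ∀ {Z : X.Modules} (k : G ⟶ Z), φ j ≫ k = 0 → Formal.smulMod A G (g ^ (j + c)) ≫ k = 0 :=
      fun k hk => by rw [← hqφ, Category.assoc, hk, comp_zero]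
    refine ShortComplex.ShortExact.mk' ?_ (hmono j) inferInstance
    exact ShortComplex.exact_of_g_is_cokernel _ (CokernelCofork.IsColimit.ofπ _ _
      (fun k hk => cokernel.desc _ k (hd k hk))
      (fun k hk => cokernel.π_desc _ _ _)
      (fun k hk m hm => (cancel_epi (cokernel.π (Formal.smulMod A G (g ^ (j + c))))).1
        (hm.trans (cokernel.π_desc _ _ _).symm)))

/-- `(J + (g))^(2a) ⊆ Jᵇ + (gᵉ)` when `b, e ≤ a`. -/
theorem sup_span_pow_le (J : Ideal A) (g : A) {a b e : ℕ} (hb : b ≤ a) (he : e ≤ a) :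
    (J ⊔ Ideal.span {g}) ^ (a + a) ≤ J ^ b ⊔ Ideal.span {g ^ e} := by
  refine Ideal.sup_pow_add_le_pow_sup_pow.trans (sup_le_sup (Ideal.pow_le_pow_right hb) ?_)
  rw [Ideal.span_singleton_pow, Ideal.span_singleton_le_span_singleton]
  exact pow_dvd_pow g he

/-- `F/JᵇF` modulo `gᵉ` is killed by `(J + (g))^(a+a)`. -/
theorem killedBy_coker (J : Ideal A) (g : A) {a b e : ℕ} (hb : b ≤ a) (he : e ≤ a) :
    Formal.KilledBy ((J ⊔ Ideal.span {g}) ^ (a + a))
      (cokernel (Formal.smulMod A (Formal.modPow J b M) (g ^ e))) := by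
  have h1 : Formal.KilledBy (J ^ b) (cokernel (Formal.smulMod A (Formal.modPow J b M) (g ^ e))) :=
    killedBy_of_epi (cokernel.π _) (killedBy_modPow b M)
  have h2 : Formal.smulMod A (cokernel (Formal.smulMod A (Formal.modPow J b M) (g ^ e))) (g ^ e) = 0 := by
    rw [← cancel_epi (cokernel.π (Formal.smulMod A (Formal.modPow J b M) (g ^ e))), ← smulMod_naturality,
      cokernel.condition, comp_zero]
  intro x hx
  obtain ⟨y, hy, z, hz, rfl⟩ := Submodule.mem_sup.1 (sup_span_pow_le J g hb he hx)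
  obtain ⟨d, rfl⟩ := Ideal.mem_span_singleton'.1 hz
  rw [smulMod_add, h1 y hy, smulMod_mul, h2, zero_comp, add_zero]

variable [IsNoetherianRing A] [IsNoetherian X] (hM : Coh.IsCoh M)

include hM in
theorem isCoh_modPow (J : Ideal A) (n : ℕ) : Coh.IsCoh (Formal.modPow J n M) :=
  FormalFn.isCoh_cokernel_smulFamily _ hM

variable (J : Ideal A) (g : A)

include hM in
theorem kerSmall_step (p : ℕ) (hk : KerSmall J M p) (hi : ImSmall J M p) :
    KerSmall (J ⊔ Ideal.span {g}) M p := by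
  intro n
  obtain ⟨n₁, hn₁⟩ := hk n
  obtain ⟨b, hb, hb'⟩ := hi n₁
  obtain ⟨c, hc⟩ := exists_mulSeq (A := A) (isCoh_modPow hM J b) g
  obtain ⟨M', q, φ, hw, -, -, -, hrange, hS⟩ := hc c le_rfl
  let a := max b (n + c)
  refine ⟨a + a, fun x hx => ?_⟩
  obtain ⟨ψ, hψ⟩ := (IsQuot.modPowπ (J ⊔ Ideal.span {g}) (a + a) M).exists_desc'
    (Formal.modPowπ J b M ≫ cokernel.π (Formal.smulMod A (Formal.modPow J b M) (g ^ (n + c))))
    (killedBy_coker J g (le_max_left _ _) (le_max_right _ _))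
  have h0 : hhMap A (cokernel.π (Formal.smulMod A (Formal.modPow J b M) (g ^ (n + c)))) p
      (hhMap A (Formal.modPowπ J b M) p x) = 0 := by
    rw [hhMap_comp, ← hψ, ← hhMap_comp, hx, map_zero]
  obtain ⟨w, hw'⟩ := (Cohom.exact₂ (A := A) (hS n) p _).1 h0
  obtain ⟨h, hh⟩ := hb' (hhMap A (φ 0) p w)
  have h1 : hhMap A (Formal.modPowπ J n₁ M) p (x - g ^ n • h) = 0 := by
    rw [map_sub, map_smul, hh, ← map_smul, ← hrange, hw', hhMap_π_LE, sub_self]
  have hJ : J ^ n ≤ (J ⊔ Ideal.span {g}) ^ n := Ideal.pow_right_mono le_sup_left n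
  have h2 : x - g ^ n • h ∈ (J ⊔ Ideal.span {g}) ^ n • (⊤ : Submodule A (Coh.HH X M p)) :=
    Submodule.smul_mono_left hJ (hn₁ _ h1)
  have h3 : g ^ n • h ∈ (J ⊔ Ideal.span {g}) ^ n • (⊤ : Submodule A (Coh.HH X M p)) :=
    Submodule.smul_mem_smul (Ideal.pow_mem_pow (Ideal.mem_sup_right (Ideal.mem_span_singleton_self g)) n) trivial
  simpa using add_mem h2 h3

/-- The torsion of a finite module by powers of an element is bounded. -/
theorem exists_torsion_le {H : Type u} [AddCommGroup H] [Module A H] [Module.Finite A H]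
    (N : Submodule A H) : ∃ c, ∀ e (h : H), g ^ e • h ∈ N → g ^ c • h ∈ N := by
  let F : ℕ →o Submodule A H := ⟨fun e => N.comap (LinearMap.lsmul A H (g ^ e)),
    fun e e' hee' x hx => by
      obtain ⟨d, rfl⟩ := Nat.exists_eq_add_of_le hee'
      show g ^ (e + d) • x ∈ N
      rw [add_comm, pow_add, mul_smul]
      exact N.smul_mem _ hx⟩
  obtain ⟨c, hc⟩ := monotone_stabilizes_iff_noetherian.2 (inferInstance : IsNoetherian A H) F
  refine ⟨c, fun e h he => ?_⟩
  have h1 : h ∈ F (max e c) := F.monotone (le_max_left e c) he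
  rwa [← hc _ (le_max_right e c)] at h1

include hM in
theorem imSmall_step (p : ℕ) [Module.Finite A (Coh.HH X M (p + 1))] (hi : ImSmall J M p)
    (hk' : KerSmall J M (p + 1)) (hi' : ImSmall J M (p + 1)) : ImSmall (J ⊔ Ideal.span {g}) M p := by
  intro n
  obtain ⟨n₁, hn₁, hn₁'⟩ := hi n
  obtain ⟨c₀, hc₀⟩ := exists_mulSeq (A := A) (isCoh_modPow hM J n₁) g
  let c := max c₀ n
  obtain ⟨M₁, q₁, φ₁, hw₁, -, hqφ₁, hmono₁, -, hS₁⟩ := hc₀ c (le_max_left _ _)
  obtain ⟨c', hc'⟩ := exists_torsion_le g (J ^ n₁ • (⊤ : Submodule A (Coh.HH X M (p + 1))))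
  obtain ⟨n₀, hn₀⟩ := hk' n₁
  let n₂ := max n₁ n₀
  have hn₂ : ∀ x : Coh.HH X M (p + 1), hhMap A (Formal.modPowπ J n₂ M) (p + 1) x = 0 →
      x ∈ J ^ n₁ • (⊤ : Submodule A (Coh.HH X M (p + 1))) := fun x hx => by
    refine hn₀ x ?_
    rw [← hhMap_π_LE J (le_max_right n₁ n₀), hx, map_zero]
  obtain ⟨b, hb, hb'⟩ := hi' n₂
  have hnb : n₁ ≤ b := (le_max_left n₁ n₀).trans hb
  obtain ⟨cb, hcb⟩ := exists_mulSeq (A := A) (isCoh_modPow hM J b) g
  obtain ⟨Mb, qb, φb, hwb, hepib, hqφb, -, hrangeb, hSb⟩ := hcb cb le_rfl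
  let j := c + c'
  let a := max b (max (j + cb) (n + n))
  have hab : b ≤ a := le_max_left _ _
  have hae : j + cb ≤ a := (le_max_left _ _).trans (le_max_right _ _)
  refine ⟨a + a, by omega, fun z => ?_⟩
  obtain ⟨ψ, hψ⟩ := (IsQuot.modPowπ (J ⊔ Ideal.span {g}) (a + a) M).exists_desc'
    (Formal.modPowπ J b M ≫ cokernel.π (Formal.smulMod A (Formal.modPow J b M) (g ^ (j + cb))))
    (killedBy_coker J g hab hae)
  obtain ⟨θ, hθ⟩ := (IsQuot.modPowπ J n M).exists_desc' (Formal.modPowπ (J ⊔ Ideal.span {g}) n M)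
    (killedBy_mono (Ideal.pow_right_mono le_sup_left n) (killedBy_modPow n M))
  have hgn : Formal.smulMod A (Formal.modPow (J ⊔ Ideal.span {g}) n M) (g ^ (0 + c)) = 0 :=
    killedBy_modPow (I := J ⊔ Ideal.span {g}) n M _ (by
      rw [zero_add]
      exact Ideal.pow_le_pow_right (le_max_right c₀ n) (Ideal.pow_mem_pow
        (Ideal.mem_sup_right (Ideal.mem_span_singleton_self g)) c))
  let L₁ := Formal2.modPowLE J hnb M
  have hτ₃ : Formal.smulMod A (Formal.modPow J b M) (g ^ (j + cb)) ≫ L₁ ≫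
      cokernel.π (Formal.smulMod A (Formal.modPow J n₁ M) (g ^ (0 + c))) = 0 := by
    obtain ⟨d, hd⟩ : ∃ d, j + cb = d + (0 + c) := ⟨j + cb - c, by omega⟩
    rw [← Category.assoc, smulMod_naturality, Category.assoc, hd,
      show g ^ (d + (0 + c)) = g ^ (0 + c) * g ^ d by rw [← pow_add, add_comm], smulMod_mul,
      Category.assoc, cokernel.condition, comp_zero, comp_zero]
  let τ₁ : Mb ⟶ M₁ := φb 0 ≫ L₁ ≫ Formal.smulMod A (Formal.modPow J n₁ M) (g ^ c') ≫ q₁
  have hc12 : τ₁ ≫ φ₁ 0 = φb j ≫ L₁ := by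
    have := hepib
    rw [← cancel_epi qb]
    dsimp only [τ₁]
    simp only [Category.assoc]
    rw [reassoc_of% (hqφb 0), reassoc_of% (hqφb j), hqφ₁, ← smulMod_mul, smulMod_naturality_assoc,
      ← smulMod_mul, smulMod_naturality]
    congr 2
    ring
  let τ : ShortComplex.mk (φb j) _ (hwb j) ⟶ ShortComplex.mk (φ₁ 0) _ (hw₁ 0) :=
    { τ₁ := τ₁
      τ₂ := L₁
      τ₃ := cokernel.desc _ (L₁ ≫ cokernel.π _) hτ₃
      comm₁₂ := hc12
      comm₂₃ := (cokernel.π_desc _ _ hτ₃).symm }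
  let xb := hhMap A ψ p z
  let y := Cohom.hhDelta A (hSb j) p xb
  have hy : hhMap A (φb j) (p + 1) y = 0 := (Cohom.exact₁ (A := A) (hSb j) p).apply_apply_eq_zero xb
  obtain ⟨h, hh⟩ := hb' (hhMap A (φb 0) (p + 1) y)
  have hgh : g ^ j • h ∈ J ^ n₁ • (⊤ : Submodule A (Coh.HH X M (p + 1))) := by
    refine hn₂ _ ?_
    rw [map_smul, hh, ← map_smul, ← hrangeb, hy, map_zero]
  have hzero : hhMap A τ₁ (p + 1) y = 0 := by
    have hL : L₁ = Formal2.modPowLE J hb M ≫ Formal2.modPowLE J (le_max_left n₁ n₀) M :=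
      (modPowLE_comp J _ _ M).symm
    dsimp only [τ₁]
    rw [← hhMap_comp, hL, Category.assoc, ← hhMap_comp, ← hh, ← hhMap_comp, hhMap_π_LE,
      ← hhMap_comp, hhMap_smulMod, ← map_smul,
      hhMap_π_eq_zero_of_mem J n₁ (p + 1) (hc' j h hgh), map_zero]
  have hδ : Cohom.hhDelta A (hS₁ 0) p (hhMap A τ.τ₃ p xb) = 0 :=
    (hhDelta_naturality (hSb j) (hS₁ 0) τ p xb).trans hzero
  obtain ⟨w, hw'⟩ := (Cohom.exact₃ (A := A) (hS₁ 0) p _).1 hδ
  obtain ⟨x, hx⟩ := hn₁' w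
  refine ⟨x, ?_⟩
  have hη0 : Formal.smulMod A (Formal.modPow J n₁ M) (g ^ (0 + c)) ≫ Formal2.modPowLE J hn₁ M ≫ θ = 0 := by
    rw [smulMod_naturality_assoc, smulMod_naturality, hgn, comp_zero, comp_zero]
  let η := cokernel.desc _ (Formal2.modPowLE J hn₁ M ≫ θ) hη0
  have e1 : ψ ≫ τ.τ₃ ≫ η = Formal2.modPowLE (J ⊔ Ideal.span {g}) (show n ≤ a + a by omega) M := by
    have := epi_modPowπ (J ⊔ Ideal.span {g}) (a + a) M
    rw [← cancel_epi (Formal.modPowπ (J ⊔ Ideal.span {g}) (a + a) M), reassoc_of% hψ,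
      Formal2.modPowπ_modPowLE]
    dsimp only [τ, η]
    rw [cokernel.π_desc_assoc, Category.assoc, cokernel.π_desc, ← Category.assoc L₁, modPowLE_comp,
      reassoc_of% (Formal2.modPowπ_modPowLE J (hn₁.trans hnb) M), hθ]
  rw [← e1, ← hhMap_comp, ← hhMap_comp, ← hθ, ← hhMap_comp, hx, hhMap_comp]
  refine Eq.trans ?_ (congrArg (hhMap A η p) hw')
  rw [hhMap_comp]
  exact congrArg (fun k => hhMap A k p w) (cokernel.π_desc _ _ hη0).symm

include hM in
/-- The pro-isomorphism, for every ideal. -/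
theorem small (I : Ideal A) (hfin : ∀ p : ℕ, Module.Finite A (Coh.HH X M p)) (p : ℕ) :
    KerSmall I M p ∧ ImSmall I M p := by
  classical
  obtain ⟨s, rfl⟩ := IsNoetherian.noetherian I
  induction s using Finset.induction_on generalizing p with
  | empty =>
    rw [Finset.coe_empty, Submodule.span_empty]
    have hπ : ∀ n, 1 ≤ n → IsIso (Formal.modPowπ (⊥ : Ideal A) n M) := fun n hn =>
      (IsQuot.modPowπ _ n M).isIso_of_killedBy (killedBy_mono
        ((Ideal.pow_le_pow_right hn).trans (pow_one _).le) (killedBy_bot M))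
    refine ⟨fun n => ⟨1, fun x hx => ?_⟩, fun n => ⟨max n 1, le_max_left _ _, fun z => ?_⟩⟩
    · have := hπ 1 le_rfl
      have h := congrArg (hhMap A (inv (Formal.modPowπ (⊥ : Ideal A) 1 M)) p) hx
      rw [hhMap_comp, IsIso.hom_inv_id, hhMap_id, map_zero] at h
      rw [h]
      exact zero_mem _
    · have := hπ (max n 1) (le_max_right _ _)
      refine ⟨hhMap A (inv (Formal.modPowπ (⊥ : Ideal A) (max n 1) M)) p z, ?_⟩
      rw [← hhMap_π_LE _ (le_max_left n 1), hhMap_comp _ (Formal.modPowπ _ _ M), IsIso.inv_hom_id, hhMap_id]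
  | insert g s _ ih =>
    have e : Submodule.span A ((insert g s : Finset A) : Set A) =
        Submodule.span A (s : Set A) ⊔ Ideal.span {g} := by
      rw [Finset.coe_insert, Submodule.span_insert, sup_comm]
    rw [e]
    exact ⟨kerSmall_step hM _ g p (ih p).1 (ih p).2,
      imSmall_step hM _ g p (ih p).2 (ih (p + 1)).1 (ih (p + 1)).2⟩

end GrothLib.FFun7
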